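import Groth.Agent.Lib.ProjSym.Map
import Mathlib.AlgebraicGeometry.ZariskisMainTheorem
import Mathlib.AlgebraicGeometry.AlgClosed.Basic
import Mathlib.FieldTheory.IsAlgClosed.AlgebraicClosure

/-!
# The symmetric product morphism is finite and surjective
-/

noncomputable section

universe u

open CategoryTheory CategoryTheory.Limits AlgebraicGeometry TopologicalSpace Opposite Polynomial

namespace Groth.Agent.Lib.ProjSym.Finite

open Groth.Agent.Lib.ProjSpace.Basic Groth.Agent.Lib.Chow.PointMap ProjSym.Point ProjSym.Map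

theorem isProper_toS : ∀ n, IsProper (toS.{u} n)
  | 0 => by
    haveI : IsIso (toS.{u} 0) := by
      obtain ⟨k, -⟩ := exists_lift.{u} 0 (T := SZ) fun i => Fin.elim0 i
      exact ⟨k, Map.hom_ext 0 fun i => Fin.elim0 i, specULiftZIsTerminal.hom_ext _ _⟩
    infer_instance
  | n + 1 => by
    haveI := isProper_toS n
    haveI : IsProper (CohB1.ProjSpace.toSpec 1 Z.{u}) := isProper_toSpec 1 Z.{u}
    obtain ⟨r, hr⟩ := exists_lift.{u} n (T := W (n + 1)) fun i => pr (n + 1) i.succ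
    let Q := pullback (CohB1.ProjSpace.toSpec 1 Z.{u}) (toS.{u} n)
    let f : W.{u} (n + 1) ⟶ Q := pullback.lift (pr (n + 1) 0) r (specULiftZIsTerminal.hom_ext _ _)
    obtain ⟨g, hg⟩ := exists_lift.{u} (n + 1) (T := Q)
      (Fin.cons (pullback.fst _ _) fun i => pullback.snd _ _ ≫ pr n i)
    have hgf : g ≫ f = 𝟙 Q := by
      refine pullback.hom_ext ?_ ?_
      · rw [Category.assoc, pullback.lift_fst, hg, Category.id_comp]; rfl
      · refine Map.hom_ext n fun i => ?_
        rw [Category.assoc, Category.assoc, pullback.lift_snd_assoc, hr, hg, Category.id_comp]; rfl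
    have hfg : f ≫ g = 𝟙 _ := by
      refine Map.hom_ext (n + 1) fun i => ?_
      rw [Category.assoc, hg, Category.id_comp]
      refine Fin.cases ?_ (fun i => ?_) i
      · exact pullback.lift_fst _ _ _
      · exact (pullback.lift_snd_assoc _ _ _ _).trans (hr i)
    haveI : IsIso f := ⟨g, hfg, hgf⟩
    haveI : IsProper (pullback.snd (CohB1.ProjSpace.toSpec 1 Z.{u}) (toS.{u} n)) :=
      MorphismProperty.pullback_snd _ _ ‹_›
    rw [show toS.{u} (n + 1) = f ≫ pullback.snd _ _ ≫ toS n from specULiftZIsTerminal.hom_ext _ _]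
    infer_instance

instance isProper_M (n : ℕ) : IsProper (M.{u} n) := by
  haveI := isProper_toS.{u} n
  haveI : IsProper (CohB1.ProjSpace.toSpec n Z.{u}) := isProper_toSpec n Z.{u}
  haveI : IsProper (M.{u} n ≫ CohB1.ProjSpace.toSpec n Z.{u}) := by
    rw [show M.{u} n ≫ CohB1.ProjSpace.toSpec n Z.{u} = toS n from specULiftZIsTerminal.hom_ext _ _]
    infer_instance
  exact IsProper.of_comp _ (CohB1.ProjSpace.toSpec n Z.{u})

variable {n : ℕ} {Ω : Type u} [Field Ω]

/-- The scalars on a field spectrum. -/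
abbrev γ (Ω : Type u) [Field Ω] : Γ(Spec (CommRingCat.of Ω), ⊤) ≃+* Ω :=
  (Scheme.ΓSpecIso (CommRingCat.of Ω)).commRingCatIsoToRingEquiv

theorem exists_hasCoord (k : Spec (CommRingCat.of Ω) ⟶ W n) : ∃ a w, HasCoord k a w := by
  choose a w hw h using fun i => exists_chartPt_of_subsingleton (k ≫ pr n i)
  exact ⟨a, w, fun i => ⟨hw i, h i⟩⟩

theorem point_eq (k : Spec (CommRingCat.of Ω) ⟶ W n) {j₀ : Fin (n + 1)} {v₀ : Fin (n + 1) → Γ(Spec (CommRingCat.of Ω), ⊤)}
    (hv₀ : v₀ j₀ = 1) (hk : k ≫ M n = chartPt j₀ v₀) {a : Fin n → Fin 2}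
    {w : Fin n → Fin 2 → Γ(Spec (CommRingCat.of Ω), ⊤)} (hw : HasCoord k a w) (l : Fin (n + 1)) :
    cf (fun i b => γ Ω (w i b)) l = cf (fun i b => γ Ω (w i b)) j₀ * γ Ω (v₀ l) := by
  obtain ⟨j, hj⟩ := exists_cf_ne_zero a (fun i b => γ Ω (w i b)) fun i => by rw [(hw i).1, map_one]
  have hcf : ∀ l, cf (fun i b => γ Ω (w i b)) l = γ Ω (cf w l) := cf_map (γ Ω).toRingHom w
  rw [hcf] at hj
  have hu : IsUnit (cf w j) := (isUnit_map_iff (γ Ω) _).1 (isUnit_iff_ne_zero.2 hj)
  obtain ⟨c, hc⟩ := hu.exists_right_inv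
  rw [M_spec n k a w j c hw hc] at hk
  have h1 := (chartPt_eq_iff (v := v₀) (v' := fun l => cf w l * c) hv₀ hc).1 hk.symm l
  rw [hcf, hcf, ← map_mul]
  refine congrArg (γ Ω) ?_
  linear_combination (cf w j) * h1 - (cf w l - cf w j₀ * v₀ l) * hc

open Classical in
/-- The possible values of the coordinates over a given point. -/
def rootVals (V : Polynomial Ω) : Finset Ω :=
  ({0, 1} : Finset Ω) ∪ V.roots.toFinset.image (fun r => -r) ∪ V.roots.toFinset.image fun r => -r⁻¹

theorem linear_dvd {a : Fin n → Fin 2} (w : Fin n → Fin 2 → Ω) (hw : ∀ i, w i (a i) = 1) {V : Polynomial Ω}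
    (hV : V ≠ 0) {s : Ω} (h : poly w = C s * V) (i : Fin n) (b : Fin 2) : w i b ∈ rootVals V := by
  classical
  unfold rootVals
  by_cases hb : b = a i
  · subst hb
    simp [hw i]
  by_cases h0 : w i b = 0
  · simp [h0]
  have hdvd : C (w i 0) + C (w i 1) * X ∣ C s * V := h ▸ Finset.dvd_prod_of_mem _ (Finset.mem_univ i)
  have hs : s ≠ 0 := fun hs => by
    rw [hs, map_zero, zero_mul] at h
    obtain ⟨l, hl⟩ := exists_cf_ne_zero a w hw
    exact hl (by rw [cf, h, coeff_zero])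
  have hroot : ∀ r, w i 0 + w i 1 * r = 0 → r ∈ V.roots := fun r hr => by
    have h1 : IsRoot (C s * V) r := IsRoot.dvd (by simp [IsRoot, hr]) hdvd
    rw [IsRoot, eval_mul, eval_C, mul_eq_zero] at h1
    exact (mem_roots hV).2 (h1.resolve_left hs)
  have hcases : (a i = 0 ∧ b = 1) ∨ (a i = 1 ∧ b = 0) := by
    have : ∀ p q : Fin 2, q ≠ p → (p = 0 ∧ q = 1) ∨ (p = 1 ∧ q = 0) := by decide
    exact this _ _ hb
  rcases hcases with ⟨ha, rfl⟩ | ⟨ha, rfl⟩
  · have h1 : w i 0 = 1 := ha ▸ hw i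
    refine Finset.mem_union_right _ (Finset.mem_image.2 ⟨-(w i 1)⁻¹, ?_, ?_⟩)
    · rw [Multiset.mem_toFinset]
      refine hroot _ ?_
      rw [h1, mul_neg, mul_inv_cancel₀ h0, add_neg_cancel]
    · rw [inv_neg, inv_inv, neg_neg]
  · have h1 : w i 1 = 1 := ha ▸ hw i
    refine Finset.mem_union_left _ (Finset.mem_union_right _ (Finset.mem_image.2 ⟨-(w i 0), ?_, neg_neg _⟩))
    rw [Multiset.mem_toFinset]
    refine hroot _ ?_
    rw [h1, one_mul, add_neg_cancel]

/-- The polynomial of a point. -/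
def vPoly (v : Fin (n + 1) → Ω) : (Polynomial Ω) := ∑ l : Fin (n + 1), C (v l) * X ^ (l : ℕ)

theorem coeff_vPoly (v : Fin (n + 1) → Ω) (l : Fin (n + 1)) : (vPoly v).coeff l = v l := by
  rw [vPoly, finsetSum_coeff, Finset.sum_eq_single l]
  · rw [coeff_C_mul, coeff_X_pow, if_pos rfl, mul_one]
  · intro m _ hm
    rw [coeff_C_mul, coeff_X_pow, if_neg (fun h => hm (Fin.ext h.symm)), mul_zero]
  · exact fun h => (h (Finset.mem_univ l)).elim

theorem natDegree_vPoly_le (v : Fin (n + 1) → Ω) : (vPoly v).natDegree ≤ n :=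
  natDegree_sum_le_of_forall_le _ _ fun l _ => (natDegree_C_mul_X_pow_le _ _).trans (Fin.is_le l)

theorem eq_of_coeff {p q : (Polynomial Ω)} (hp : p.natDegree ≤ n) (hq : q.natDegree ≤ n)
    (h : ∀ l : Fin (n + 1), p.coeff l = q.coeff l) : p = q := by
  ext m
  rcases lt_or_ge n m with hm | hm
  · rw [coeff_eq_zero_of_natDegree_lt (hp.trans_lt hm), coeff_eq_zero_of_natDegree_lt (hq.trans_lt hm)]
  · exact h ⟨m, Nat.lt_succ_of_le hm⟩

theorem finite_points (j₀ : Fin (n + 1)) (v₀ : Fin (n + 1) → Γ(Spec (CommRingCat.of Ω), ⊤)) (hv₀ : v₀ j₀ = 1) :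
    Set.Finite {k : Spec (CommRingCat.of Ω) ⟶ W n | k ≫ M n = chartPt j₀ v₀} := by
  classical
  let V := vPoly fun l => γ Ω (v₀ l)
  let S : Finset Ω := rootVals V
  have hV : V ≠ 0 := fun h => by
    have := coeff_vPoly (fun l => γ Ω (v₀ l)) j₀
    rw [hv₀, map_one] at this
    exact zero_ne_one ((by rw [show vPoly (fun l => γ Ω (v₀ l)) = 0 from h, coeff_zero] : (0 : Ω) = _).trans this)
  let F : (Fin n → Fin 2 × (Fin 2 → S)) → (Fin n → (Spec (CommRingCat.of Ω) ⟶ P1.{u})) := fun d i =>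
    chartPt (d i).1 fun b => (γ Ω).symm ((d i).2 b).1
  refine Set.Finite.of_finite_image ((Set.finite_range F).subset ?_)
    (fun k _ k' _ h => Map.hom_ext n fun i => congrFun h i) (f := fun k i => k ≫ pr n i)
  rintro _ ⟨k, hk, rfl⟩
  obtain ⟨a, w, hw⟩ := exists_hasCoord k
  have hpoly : poly (fun i b => γ Ω (w i b)) = C (cf (fun i b => γ Ω (w i b)) j₀) * V :=
    eq_of_coeff (natDegree_poly_le _) ((natDegree_C_mul_le _ _).trans (natDegree_vPoly_le _)) fun l => by
      rw [coeff_C_mul, coeff_vPoly]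
      exact point_eq k hv₀ hk hw l
  have hmem : ∀ i b, γ Ω (w i b) ∈ S :=
    linear_dvd (fun i b => γ Ω (w i b)) (fun i => by rw [(hw i).1, map_one]) hV hpoly
  refine ⟨fun i => (a i, fun b => ⟨γ Ω (w i b), hmem i b⟩), funext fun i => ?_⟩
  refine Eq.trans (congrArg (chartPt (a i)) (funext fun b => ?_)) (hw i).2.symm
  exact (γ Ω).symm_apply_apply _

theorem exists_point [IsAlgClosed Ω] (j₀ : Fin (n + 1)) (v₀ : Fin (n + 1) → Γ(Spec (CommRingCat.of Ω), ⊤))
    (hv₀ : v₀ j₀ = 1) : ∃ k : Spec (CommRingCat.of Ω) ⟶ W n, k ≫ M n = chartPt j₀ v₀ := by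
  classical
  let V := vPoly fun l => γ Ω (v₀ l)
  have hVj : V.coeff j₀ = 1 := by rw [coeff_vPoly, hv₀, map_one]
  have hV : V ≠ 0 := fun h => by rw [h, coeff_zero] at hVj; exact zero_ne_one hVj
  let rs : List Ω := V.roots.toList
  have hlen : rs.length ≤ n := by
    rw [Multiset.length_toList, ← (IsAlgClosed.splits V).natDegree_eq_card_roots]
    exact natDegree_vPoly_le _
  let w₀ : Fin n → Fin 2 → Ω := fun i => if h : (i : ℕ) < rs.length then ![-rs[(i : ℕ)], 1] else ![1, 0]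
  let a : Fin n → Fin 2 := fun i => if (i : ℕ) < rs.length then 1 else 0
  have hw₀ : ∀ i, w₀ i (a i) = 1 := fun i => by
    by_cases h : (i : ℕ) < rs.length
    · simp [w₀, a, h]
    · simp [w₀, a, h]
  have hp : V = C V.leadingCoeff * poly w₀ := by
    conv_lhs => rw [(IsAlgClosed.splits V).eq_prod_roots]
    refine congrArg (C V.leadingCoeff * ·) ?_
    have hfac : ∀ i : Fin n, C (w₀ i 0) + C (w₀ i 1) * X =
        if h : (i : ℕ) < rs.length then X - C rs[(i : ℕ)] else 1 := fun i => by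
      by_cases h : (i : ℕ) < rs.length
      · simp [w₀, h]; ring
      · simp [w₀, h]
    rw [poly, Finset.prod_congr rfl fun i _ => hfac i]
    rw [Fin.prod_univ_eq_prod_range (fun m => if h : m < rs.length then X - C rs[m] else 1) n,
      ← Finset.prod_subset (Finset.range_subset_range.2 hlen) (fun m _ hm => dif_neg (by simpa using hm)),
      ← Fin.prod_univ_eq_prod_range]
    have hpr : ((V.roots.map fun x => X - C x).prod) = (rs.map fun x => X - C x).prod := by
      rw [← Multiset.prod_coe, ← Multiset.map_coe, Multiset.coe_toList]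
    rw [hpr, ← Fin.prod_univ_fun_getElem]
    refine Finset.prod_congr rfl fun i _ => ?_
    rw [dif_pos i.2]
  let w : Fin n → Fin 2 → Γ(Spec (CommRingCat.of Ω), ⊤) := fun i b => (γ Ω).symm (w₀ i b)
  obtain ⟨k, hk⟩ := exists_lift n fun i => chartPt (a i) (w i)
  have hkc : HasCoord k a w := fun i => ⟨by simp [w, hw₀ i], hk i⟩
  have hcf : ∀ l, γ Ω (cf w l) = cf w₀ l := fun l => by
    rw [← (show ∀ l, cf (fun i b => γ Ω (w i b)) l = γ Ω (cf w l) from cf_map (γ Ω).toRingHom w)]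
    simp [w]
  have hV' : ∀ l : Fin (n + 1), γ Ω (v₀ l) = V.leadingCoeff * γ Ω (cf w l) := fun l => by
    rw [← coeff_vPoly (fun l => γ Ω (v₀ l)) l, hcf]
    conv_lhs => rw [show vPoly (fun l => γ Ω (v₀ l)) = _ from hp]
    rw [coeff_C_mul]
    rfl
  have hc : cf w j₀ * (γ Ω).symm V.leadingCoeff = 1 := (γ Ω).injective (by
    rw [map_mul, map_one, (γ Ω).apply_symm_apply, mul_comm, ← hV', hv₀, map_one])
  refine ⟨k, (M_spec n k a w j₀ _ hkc hc).trans (congrArg (chartPt j₀) (funext fun l => (γ Ω).injective ?_))⟩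
  rw [hV', map_mul, (γ Ω).apply_symm_apply, mul_comm]

variable (n)

instance surjective_M : Surjective (M.{u} n) := ⟨fun p => by
  let Ω := AlgebraicClosure ((CohB1.ProjSpace n Z.{u}).residueField p)
  let pb : Spec (CommRingCat.of Ω) ⟶ CohB1.ProjSpace n Z.{u} :=
    Spec.map (CommRingCat.ofHom (algebraMap ((CohB1.ProjSpace n Z.{u}).residueField p) Ω)) ≫
      (CohB1.ProjSpace n Z.{u}).fromSpecResidueField p
  obtain ⟨j₀, v₀, hv₀, hpb⟩ := exists_chartPt_of_subsingleton pb
  obtain ⟨k, hk⟩ := exists_point j₀ v₀ hv₀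
  rw [← hpb] at hk
  refine ⟨k (IsLocalRing.closedPoint Ω), ?_⟩
  rw [← Scheme.Hom.comp_apply, hk, Scheme.Hom.comp_apply]
  exact Scheme.fromSpecResidueField_apply _ _⟩

theorem finite_closedPoints {pb : Spec (CommRingCat.of Ω) ⟶ CohB1.ProjSpace n Z.{u}} [IsAlgClosed Ω]
    {j₀ : Fin (n + 1)} {v₀ : Fin (n + 1) → Γ(Spec (CommRingCat.of Ω), ⊤)} (hv₀ : v₀ j₀ = 1)
    (hpb : pb = chartPt j₀ v₀) : Finite (pullback (M.{u} n) pb : Scheme.{u}) := by
  let f : pullback (M.{u} n) pb ⟶ Spec (CommRingCat.of Ω) := pullback.snd _ _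
  have : Finite {q : Spec (CommRingCat.of Ω) ⟶ pullback (M.{u} n) pb // q ≫ f = 𝟙 _} := by
    have := ((finite_points j₀ v₀ hv₀).to_subtype)
    refine Finite.of_injective (β := {k : Spec (CommRingCat.of Ω) ⟶ W n | k ≫ M n = chartPt j₀ v₀})
      (fun q => ⟨q.1 ≫ pullback.fst (M.{u} n) pb, ?_⟩) fun q q' h => ?_
    · show (q.1 ≫ pullback.fst (M.{u} n) pb) ≫ M n = _
      rw [Category.assoc, pullback.condition, ← Category.assoc, q.2, Category.id_comp, hpb]
    · exact Subtype.ext (pullback.hom_ext (congrArg Subtype.val h) (q.2.trans q'.2.symm))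
  have : Finite (closedPoints (pullback (M.{u} n) pb : Scheme.{u})) := Finite.of_equiv _ (pointEquivClosedPoint f)
  have hJ : JacobsonSpace (pullback (M.{u} n) pb : Scheme.{u}) := LocallyOfFiniteType.jacobsonSpace f
  have hclosed : (closedPoints (pullback (M.{u} n) pb : Scheme.{u})).Finite := Set.toFinite _
  have hD : DiscreteTopology (pullback (M.{u} n) pb : Scheme.{u}) := JacobsonSpace.discreteTopology hclosed
  rw [closedPoints_eq_univ] at hclosed
  exact Set.finite_univ_iff.1 hclosed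

theorem finite_fibre (p : CohB1.ProjSpace n Z.{u}) : (M.{u} n ⁻¹' {p}).Finite := by
  let Ω := AlgebraicClosure ((CohB1.ProjSpace n Z.{u}).residueField p)
  let pb : Spec (CommRingCat.of Ω) ⟶ CohB1.ProjSpace n Z.{u} :=
    Spec.map (CommRingCat.ofHom (algebraMap ((CohB1.ProjSpace n Z.{u}).residueField p) Ω)) ≫
      (CohB1.ProjSpace n Z.{u}).fromSpecResidueField p
  have hpb0 : pb (IsLocalRing.closedPoint Ω) = p :=
    (Scheme.Hom.comp_apply _ _ _).trans (Scheme.fromSpecResidueField_apply _ _)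
  obtain ⟨j₀, v₀, hv₀, hpb⟩ := exists_chartPt_of_subsingleton pb
  have := finite_closedPoints n hv₀ hpb
  refine (Set.finite_range (pullback.fst (M.{u} n) pb)).subset fun x hx => ?_
  obtain ⟨z, hz, -⟩ := Scheme.Pullback.exists_preimage_pullback (f := M.{u} n) (g := pb) x (IsLocalRing.closedPoint Ω)
    ((show M n x = p from hx).trans hpb0.symm)
  exact ⟨z, hz⟩

instance isFinite_M : IsFinite (M.{u} n) := by
  haveI : LocallyQuasiFinite (M.{u} n) := locallyQuasiFinite_iff_finite_preimage_singleton.2 (finite_fibre n)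
  exact IsFinite.of_isProper_of_locallyQuasiFinite _

end Groth.Agent.Lib.ProjSym.Finite
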