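import Groth.Agent.Lib.ProjSym.Point
import Mathlib.RingTheory.Polynomial.Basic

/-!
# The symmetric product morphism `(P^1)^n ⟶ P^n` over `ℤ`
-/

noncomputable section

universe u

open CategoryTheory CategoryTheory.Limits AlgebraicGeometry TopologicalSpace Opposite

namespace Groth.Agent.Lib.ProjSym.Map

open Groth.Agent.Lib.ProjSpace.Basic Groth.Agent.Lib.Chow.PointMap ProjSym.Point

variable (n : ℕ)

/-- The base. -/
abbrev SZ : Scheme.{u} := Spec (CommRingCat.of (ULift.{u} ℤ))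

/-- The projective line. -/
abbrev P1 : Scheme.{u} := CohB1.ProjSpace 1 Z.{u}

/-- The product of `n` lines. -/
def W : Scheme.{u} :=
  widePullback SZ.{u} (fun _ : Fin n => P1.{u}) fun _ => CohB1.ProjSpace.toSpec 1 Z.{u}

/-- The projections. -/
def pr (i : Fin n) : W.{u} n ⟶ P1 := WidePullback.π _ i

/-- The structure map. -/
def toS : W.{u} n ⟶ SZ := WidePullback.base _

theorem hom_ext {T : Scheme.{u}} {k k' : T ⟶ W n} (h : ∀ i, k ≫ pr n i = k' ≫ pr n i) : k = k' :=
  WidePullback.hom_ext _ _ _ h (specULiftZIsTerminal.hom_ext _ _)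

theorem exists_lift {T : Scheme.{u}} (g : Fin n → (T ⟶ P1.{u})) : ∃ k : T ⟶ W n, ∀ i, k ≫ pr n i = g i :=
  ⟨WidePullback.lift (specULiftZIsTerminal.from T) g fun _ => specULiftZIsTerminal.hom_ext _ _,
    fun i => WidePullback.lift_π _ _ _ _ i⟩

variable {n}

/-- The product of the linear forms. -/
def poly {R : Type u} [CommRing R] (w : Fin n → Fin 2 → R) : Polynomial R :=
  ∏ i, (Polynomial.C (w i 0) + Polynomial.C (w i 1) * Polynomial.X)

/-- Its coefficients. -/
def cf {R : Type u} [CommRing R] (w : Fin n → Fin 2 → R) (l : Fin (n + 1)) : R := (poly w).coeff l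

theorem natDegree_poly_le {R : Type u} [CommRing R] (w : Fin n → Fin 2 → R) : (poly w).natDegree ≤ n := by
  refine (Polynomial.natDegree_prod_le _ _).trans
    ((Finset.sum_le_sum (g := fun _ : Fin n => 1) fun i _ => ?_).trans (le_of_eq ?_))
  · refine (Polynomial.natDegree_add_le _ _).trans (max_le (by simp) ?_)
    exact (Polynomial.natDegree_C_mul_le _ _).trans Polynomial.natDegree_X_le
  · simp

theorem cf_map {R R' : Type u} [CommRing R] [CommRing R'] (φ : R →+* R') (w : Fin n → Fin 2 → R)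
    (l : Fin (n + 1)) : cf (fun i b => φ (w i b)) l = φ (cf w l) := by
  have h : poly (fun i b => φ (w i b)) = (poly w).map φ := by
    simp only [poly, Polynomial.map_prod, Polynomial.map_add, Polynomial.map_mul, Polynomial.map_C, Polynomial.map_X]
  rw [cf, cf, h, Polynomial.coeff_map]

theorem cf_smul {R : Type u} [CommRing R] (s : Fin n → R) (w : Fin n → Fin 2 → R) (l : Fin (n + 1)) :
    cf (fun i b => s i * w i b) l = (∏ i, s i) * cf w l := by
  have h : poly (fun i b => s i * w i b) = Polynomial.C (∏ i, s i) * poly w := by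
    rw [poly, poly, map_prod, ← Finset.prod_mul_distrib]
    refine Finset.prod_congr rfl fun i _ => ?_
    rw [map_mul, map_mul]
    ring
  rw [cf, cf, h, Polynomial.coeff_C_mul]

theorem exists_cf_ne_zero {R : Type u} [Field R] (a : Fin n → Fin 2) (w : Fin n → Fin 2 → R)
    (hw : ∀ i, w i (a i) = 1) : ∃ l, cf w l ≠ 0 := by
  have h : poly w ≠ 0 := by
    refine Finset.prod_ne_zero_iff.2 fun i _ h0 => ?_
    have h1 : ∀ b : Fin 2, w i b = 0 := fun b => by
      fin_cases b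
      · simpa using congrArg (fun p => Polynomial.coeff p 0) h0
      · simpa using congrArg (fun p => Polynomial.coeff p 1) h0
    exact one_ne_zero ((hw i).symm.trans (h1 _))
  refine ⟨⟨(poly w).natDegree, Nat.lt_succ_of_le (natDegree_poly_le w)⟩, ?_⟩
  exact Polynomial.leadingCoeff_ne_zero.2 h

/-- The coordinates of a morphism to the product. -/
def HasCoord {T : Scheme.{u}} (k : T ⟶ W n) (a : Fin n → Fin 2) (w : Fin n → Fin 2 → Γ(T, ⊤)) : Prop :=
  ∀ i, w i (a i) = 1 ∧ k ≫ pr n i = chartPt (a i) (w i)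

theorem HasCoord.comp {T T' : Scheme.{u}} {k : T ⟶ W n} {a : Fin n → Fin 2} {w : Fin n → Fin 2 → Γ(T, ⊤)}
    (hc : HasCoord k a w) (h : T' ⟶ T) : HasCoord (h ≫ k) a fun i b => h.appTop (w i b) := fun i =>
  ⟨(congrArg h.appTop (hc i).1).trans (map_one h.appTop.hom), by rw [Category.assoc, (hc i).2, comp_chartPt h (hc i).1]⟩

/-- The image point. -/
def imgPt {T : Scheme.{u}} (w : Fin n → Fin 2 → Γ(T, ⊤)) (j : Fin (n + 1)) (c : Γ(T, ⊤)) :
    T ⟶ CohB1.ProjSpace n Z.{u} := chartPt j fun l => cf w l * c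

theorem imgPt_eq {T : Scheme.{u}} {k : T ⟶ W n} {a a' : Fin n → Fin 2} {w w' : Fin n → Fin 2 → Γ(T, ⊤)}
    (hk : HasCoord k a w) (hk' : HasCoord k a' w') {j j' : Fin (n + 1)} {c c' : Γ(T, ⊤)}
    (hc : cf w j * c = 1) (hc' : cf w' j' * c' = 1) : imgPt w j c = imgPt w' j' c' := by
  refine (chartPt_eq_iff (v := fun l => cf w l * c) (v' := fun l => cf w' l * c') hc hc').2 fun l => ?_
  have hs : w' = fun i b => w' i (a i) * w i b := funext fun i => funext fun b =>
    (chartPt_eq_iff (hk i).1 (hk' i).1).1 ((hk i).2.symm.trans (hk' i).2) b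
  have hcf : ∀ l, cf w' l = (∏ i, w' i (a i)) * cf w l := fun l => by
    conv_lhs => rw [hs]
    exact cf_smul _ w l
  rw [hcf l, hcf j]
  linear_combination (-(∏ i, w' i (a i)) * c' * cf w l) * hc

theorem comp_imgPt {T T' : Scheme.{u}} (h : T' ⟶ T) {w : Fin n → Fin 2 → Γ(T, ⊤)} {j : Fin (n + 1)} {c : Γ(T, ⊤)}
    (hc : cf w j * c = 1) : h ≫ imgPt w j c = imgPt (fun i b => h.appTop (w i b)) j (h.appTop c) := by
  rw [imgPt, imgPt, comp_chartPt h (v := fun l => cf w l * c) hc]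
  refine congrArg (chartPt j) (funext fun l => ?_)
  rw [map_mul]
  exact congrArg (· * _) (cf_map h.appTop.hom w l).symm

theorem cf_mul_map {T T' : Scheme.{u}} (h : T' ⟶ T) {w : Fin n → Fin 2 → Γ(T, ⊤)} {j : Fin (n + 1)} {c : Γ(T, ⊤)}
    (hc : cf w j * c = 1) : cf (fun i b => h.appTop (w i b)) j * h.appTop c = 1 :=
  (congrArg (· * _) (cf_map h.appTop.hom w j)).trans
    ((map_mul h.appTop.hom _ _).symm.trans ((congrArg h.appTop.hom hc).trans (map_one _)))

variable (n)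

/-- The opens where the coordinates are given. -/
def chartOpen (a : Fin n → Fin 2) : (W.{u} n).Opens :=
  Finset.univ.inf fun i => pr n i ⁻¹ᵁ Proj.basicOpen (CohB1.polyGrading 1 Z.{u}) (MvPolynomial.X (a i))

theorem exists_coord (a : Fin n → Fin 2) :
    ∃ w, HasCoord ((chartOpen.{u} n a).ι) a w := by
  choose w hw h using fun i => exists_chartPt ((chartOpen.{u} n a).ι ≫ pr n i) (a i) (fun x => by
    exact (Finset.inf_le (f := fun i => pr n i ⁻¹ᵁ Proj.basicOpen (CohB1.polyGrading 1 Z.{u}) (MvPolynomial.X (a i)))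
      (Finset.mem_univ i)) x.2)
  exact ⟨w, fun i => ⟨hw i, h i⟩⟩

theorem exists_mem_chartOpen (x : W.{u} n) : ∃ a, x ∈ chartOpen n a := by
  choose a ha using fun i => exists_mem_basicOpen (pr n i x)
  refine ⟨a, ?_⟩
  rw [chartOpen, ← SetLike.mem_coe, Opens.coe_finset_inf]
  simp only [Finset.inf_eq_iInf, Set.iInf_eq_iInter, Set.mem_iInter]
  exact fun i _ => ha i

theorem exists_cover (x : W.{u} n) : ∃ (U : (W.{u} n).Opens) (a : Fin n → Fin 2) (w : Fin n → Fin 2 → Γ(U, ⊤))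
    (j : Fin (n + 1)) (c : Γ(U, ⊤)), x ∈ U ∧ HasCoord U.ι a w ∧ cf w j * c = 1 := by
  obtain ⟨a, hxa⟩ := exists_mem_chartOpen n x
  obtain ⟨w, hw⟩ := exists_coord.{u} n a
  let V : Scheme.{u} := chartOpen n a
  let y : V := ⟨x, hxa⟩
  let e := (V.presheaf.germ ⊤ y (Opens.mem_top y) ≫ V.residue y).hom
  obtain ⟨j, hj⟩ := exists_cf_ne_zero a (fun i b => e (w i b)) fun i => by rw [(hw i).1, map_one]
  rw [cf_map] at hj
  have hyj : y ∈ V.basicOpen (cf w j) := by
    rw [Scheme.mem_basicOpen V _ y (Opens.mem_top y)]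
    by_contra hu
    exact hj (Ideal.Quotient.eq_zero_iff_mem.2 ((IsLocalRing.mem_maximalIdeal _).2 hu))
  let U : (W.{u} n).Opens := (chartOpen n a).ι ''ᵁ V.basicOpen (cf w j)
  have hle : U ≤ chartOpen n a := by rintro _ ⟨z, -, rfl⟩; exact z.2
  let h : (U : Scheme.{u}) ⟶ V := (W.{u} n).homOfLE hle
  have hu : IsUnit (h.appTop (cf w j)) := by
    refine (U : Scheme.{u}).toRingedSpace.isUnit_of_isUnit_germ _ _ fun z hz => ?_
    refine (Scheme.mem_basicOpen (U : Scheme.{u}) (h.appTop (cf w j)) z hz).1 ?_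
    refine (congrArg (fun O : (U : Scheme.{u}).Opens => z ∈ O) (Scheme.preimage_basicOpen h (cf w j))).mp ?_
    obtain ⟨t, ht, hte⟩ := z.2
    have : h z = t := by
      refine Subtype.ext ?_
      have h1 : ((W.{u} n).homOfLE hle ≫ (chartOpen n a).ι) z = U.ι z := by rw [Scheme.homOfLE_ι]
      exact h1.trans hte.symm
    show h z ∈ V.basicOpen (cf w j)
    rw [this]
    exact ht
  obtain ⟨c, hc⟩ := hu.exists_right_inv
  refine ⟨U, a, fun i b => h.appTop (w i b), j, c, ⟨y, hyj, rfl⟩, ?_, ?_⟩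
  · have h2 := hw.comp h
    rwa [show h ≫ (chartOpen n a).ι = U.ι from Scheme.homOfLE_ι _ _] at h2
  · rw [cf_map]
    exact hc

theorem exists_map : ∃ M : W.{u} n ⟶ CohB1.ProjSpace n Z.{u},
    ∀ {T : Scheme.{u}} (k : T ⟶ W n) (a : Fin n → Fin 2) (w : Fin n → Fin 2 → Γ(T, ⊤)) (j : Fin (n + 1))
      (c : Γ(T, ⊤)), HasCoord k a w → cf w j * c = 1 → k ≫ M = imgPt w j c := by
  choose U a w j c hxU hw hc using exists_cover.{u} n
  let 𝒰 : (W.{u} n).OpenCover := (W.{u} n).openCoverOfIsOpenCover U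
    (eq_top_iff.2 fun x _ => Opens.mem_iSup.2 ⟨x, hxU x⟩)
  have hglue : ∀ x x', pullback.fst (U x).ι (U x').ι ≫ imgPt (w x) (j x) (c x) =
      pullback.snd (U x).ι (U x').ι ≫ imgPt (w x') (j x') (c x') := fun x x' => by
    have h1 := (hw x).comp (pullback.fst (U x).ι (U x').ι)
    have h2 := (hw x').comp (pullback.snd (U x).ι (U x').ι)
    rw [← pullback.condition] at h2
    rw [comp_imgPt _ (hc x), comp_imgPt _ (hc x')]
    exact imgPt_eq h1 h2 (cf_mul_map _ (hc x)) (cf_mul_map _ (hc x'))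
  refine ⟨𝒰.glueMorphisms (fun x => imgPt (w x) (j x) (c x)) hglue, fun {T} k a' w' j' c' hk hc' => ?_⟩
  refine Scheme.Cover.hom_ext (𝒰.pullback₁ k) _ _ fun x => ?_
  change pullback.fst k (U x).ι ≫ k ≫ _ = pullback.fst k (U x).ι ≫ _
  rw [pullback.condition_assoc]
  change pullback.snd k (U x).ι ≫ 𝒰.f x ≫ _ = _
  erw [𝒰.ι_glueMorphisms]
  have h1 := hk.comp (pullback.fst k (U x).ι)
  have h2 := (hw x).comp (pullback.snd k (U x).ι)
  rw [← pullback.condition] at h2
  rw [comp_imgPt (pullback.fst k (U x).ι) hc']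
  refine (comp_imgPt (pullback.snd k (U x).ι) (hc x)).trans ?_
  exact imgPt_eq h2 h1 (cf_mul_map _ (hc x)) (cf_mul_map _ hc')

/-- The morphism. -/
def M : W.{u} n ⟶ CohB1.ProjSpace n Z.{u} := (exists_map.{u} n).choose

theorem M_spec {T : Scheme.{u}} (k : T ⟶ W n) (a : Fin n → Fin 2) (w : Fin n → Fin 2 → Γ(T, ⊤)) (j : Fin (n + 1))
    (c : Γ(T, ⊤)) (hk : HasCoord k a w) (hc : cf w j * c = 1) : k ≫ M n = imgPt w j c :=
  (exists_map.{u} n).choose_spec k a w j c hk hc

end Groth.Agent.Lib.ProjSym.Map
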