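import Groth.Agent.Lib.Chow.PointMap

/-!
# Morphisms into `P^m_ℤ` through charts
-/

noncomputable section

universe u

open CategoryTheory CategoryTheory.Limits AlgebraicGeometry MvPolynomial TopologicalSpace

namespace Groth.Agent.Lib.ProjSym.Point

open Groth.Agent.Lib.ProjSpace.Charts Groth.Agent.Lib.ProjSpace.Basic Groth.Agent.Lib.Chow.PointMap

variable {m : ℕ} {T : Scheme.{u}}

theorem comp_chartPt {T' : Scheme.{u}} (h : T' ⟶ T) {k : Fin (m + 1)} {v : Fin (m + 1) → Γ(T, ⊤)} (hv : v k = 1) :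
    h ≫ chartPt k v = chartPt k (fun l => h.appTop (v l)) := by
  rw [chartPt, chartPt, comp_toSpecHom_assoc]
  congr 2
  refine awayHom_ext fun l => ?_
  rw [RingHom.comp_apply, ptHom_coord hv, ptHom_coord (by rw [hv, map_one])]

theorem chartPt_inj {k : Fin (m + 1)} {v v' : Fin (m + 1) → Γ(T, ⊤)} (hv : v k = 1) (hv' : v' k = 1)
    (h : chartPt k v = chartPt k v') : v' = v := by
  funext l
  rw [(chartPt_eq_iff hv hv').1 h l, hv', one_mul]

theorem exists_chartPt (g : T ⟶ CohB1.ProjSpace m Z.{u}) (k : Fin (m + 1))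
    (hg : ∀ t, g t ∈ Proj.basicOpen (CohB1.polyGrading m Z.{u}) (X k)) :
    ∃ v : Fin (m + 1) → Γ(T, ⊤), v k = 1 ∧ g = chartPt k v := by
  have hr : Set.range g ⊆ Set.range (awayχ Z.{u} k) := by
    have h := congrArg (fun U : (CohB1.ProjSpace m Z.{u}).Opens => (U : Set (CohB1.ProjSpace m Z.{u})))
      (opensRange_awayχ Z.{u} k)
    rintro _ ⟨t, rfl⟩
    exact h.ge (hg t)
  let φ := homOf (IsOpenImmersion.lift (awayχ Z.{u} k) g hr)
  refine ⟨fun l => φ (coord Z.{u} k l), (congrArg φ (coord_self k)).trans (map_one φ), ?_⟩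
  rw [chartPt, ← eq_ptHom φ, toSpecHom_homOf, IsOpenImmersion.lift_fac]

theorem exists_mem_basicOpen (x : CohB1.ProjSpace m Z.{u}) :
    ∃ k : Fin (m + 1), x ∈ Proj.basicOpen (CohB1.polyGrading m Z.{u}) (X k) := by
  obtain ⟨k, hk⟩ := exists_mem_opensRange_chartι (R := Z.{u}) m x
  exact ⟨k, (opensRange_chartι Z.{u} k).le hk⟩

theorem exists_chartPt_of_subsingleton [Subsingleton T] [Nonempty T] (g : T ⟶ CohB1.ProjSpace m Z.{u}) :
    ∃ (k : Fin (m + 1)) (v : Fin (m + 1) → Γ(T, ⊤)), v k = 1 ∧ g = chartPt k v := by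
  obtain ⟨k, hk⟩ := exists_mem_basicOpen (g (Classical.arbitrary T))
  obtain ⟨v, hv, h⟩ := exists_chartPt g k fun t => Subsingleton.elim (Classical.arbitrary T) t ▸ hk
  exact ⟨k, v, hv, h⟩

end Groth.Agent.Lib.ProjSym.Point
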